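import Cfsg.Agent.Lib.FGS.Subnormal

/-!
A proper subgroup with full normal closure is contained in a unique maximal subgroup unless the
proper subgroups which it generates normally together generate the group.
-/

set_option autoImplicit false
set_option linter.all false

open Subgroup
open scoped Pointwise

namespace Cfsg.Agent.Zipper23

open Cfsg.Agent.FGS.Subn

variable {G : Type*} [Group G]

/-- `H` is the normal closure in itself of its subgroup `A`. -/
def Closed (A H : Subgroup G) : Prop :=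
  A ≤ H ∧ ∀ N : Subgroup G, A ≤ N → N ≤ H → H ≤ normalizer (N : Set G) → N = H

theorem closed_iff {A H : Subgroup G} (h : A ≤ H) :
    Closed A H ↔ normalClosure ((A.subgroupOf H : Subgroup H) : Set H) = ⊤ := by
  constructor
  · rintro ⟨-, hN⟩
    set N₀ := normalClosure ((A.subgroupOf H : Subgroup H) : Set H)
    have h1 : N₀.map H.subtype = H := by
      refine hN _ (fun a ha => ⟨⟨a, h ha⟩, subset_normalClosure ha, rfl⟩) (map_subtype_le _) ?_
      have := le_normalizer_map (H := N₀) H.subtype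
      rwa [normalizer_eq_top_iff.mpr (inferInstance : N₀.Normal), ← MonoidHom.range_eq_map,
        range_subtype] at this
    apply map_injective H.subtype_injective
    rw [h1, ← MonoidHom.range_eq_map, range_subtype]
  · intro hn
    refine ⟨h, fun N hAN hNH hHN => le_antisymm hNH ?_⟩
    haveI := normal_subgroupOf_of_le_normalizer hHN
    have : normalClosure ((A.subgroupOf H : Subgroup H) : Set H) ≤ N.subgroupOf H :=
      normalClosure_le_normal fun a ha => hAN ha
    rw [hn, top_le_iff, subgroupOf_eq_top] at this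
    exact this

theorem closed_self (A : Subgroup G) : Closed A A :=
  ⟨le_rfl, fun _ h1 h2 _ => le_antisymm h2 h1⟩

theorem Closed.trans {A T H : Subgroup G} (h1 : Closed A T) (h2 : Closed T H) : Closed A H := by
  refine ⟨h1.1.trans h2.1, fun N hAN hNH hHN => h2.2 N ?_ hNH hHN⟩
  have := h1.2 (N ⊓ T) (le_inf hAN h1.1) inf_le_right ?_
  · exact inf_eq_right.mp this
  · intro t ht
    rw [mem_normalizer_iff]
    intro y
    rw [mem_inf, mem_inf, ← mem_normalizer_iff.mp (le_normalizer ht) y,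
      ← mem_normalizer_iff.mp (hHN (h2.1 ht)) y]

/-- The join of the proper subgroups generated normally by `A`. -/
def envelope (A : Subgroup G) : Subgroup G := sSup {H : Subgroup G | Closed A H ∧ H ≠ ⊤}

/-- The join of the conjugates of `A` inside `U`. -/
def conjIn (A U : Subgroup G) : Subgroup G :=
  sSup {B : Subgroup G | B ≤ U ∧ ∃ g : G, MulAut.conj g • A = B}

theorem conjIn_le (A U : Subgroup G) : conjIn A U ≤ U := sSup_le fun _ h => h.1

theorem le_conjIn {A U : Subgroup G} (g : G) (h : MulAut.conj g • A ≤ U) :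
    MulAut.conj g • A ≤ conjIn A U := le_sSup ⟨h, g, rfl⟩

theorem conj_smul_smul (g h : G) (A : Subgroup G) :
    MulAut.conj g • MulAut.conj h • A = MulAut.conj (g * h) • A := by rw [smul_smul, map_mul]

theorem conj_one_smul (A : Subgroup G) : MulAut.conj (1 : G) • A = A := by rw [map_one, one_smul]

theorem conj_le_iff {g : G} {A B : Subgroup G} :
    MulAut.conj g • A ≤ B ↔ A ≤ MulAut.conj g⁻¹ • B := by
  rw [map_inv, pointwise_smul_subset_iff]

variable [Finite G]

theorem smul_coatom {M : Subgroup G} (hM : IsCoatom M) (g : G) :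
    IsCoatom (MulAut.conj g • M) := by
  refine ⟨fun h => hM.1 ?_, fun K hK => ?_⟩
  · refine eq_top_iff.mpr fun x _ => ?_
    have : MulAut.conj g x ∈ MulAut.conj g • M := by rw [h]; exact mem_top _
    rwa [← MulAut.smul_def, smul_mem_pointwise_smul_iff] at this
  · have h1 : M < MulAut.conj g⁻¹ • K := by
      refine lt_of_le_of_ne (conj_le_iff.mp hK.le) fun h => hK.ne ?_
      rw [h, conj_smul_smul, mul_inv_cancel, conj_one_smul]
    have h2 := hM.2 _ h1
    refine eq_top_iff.mpr fun x _ => ?_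
    have : MulAut.conj g⁻¹ x ∈ MulAut.conj g⁻¹ • K := by rw [h2]; exact mem_top _
    rwa [← MulAut.smul_def, smul_mem_pointwise_smul_iff] at this

/-- **A generalised zipper lemma.** -/
theorem unique_coatom : ∀ A : Subgroup G, normalClosure (A : Set G) = ⊤ → A ≠ ⊤ →
    envelope A ≠ ⊤ → ∀ X₁ X₂ : Subgroup G, IsCoatom X₁ → IsCoatom X₂ → A ≤ X₁ → A ≤ X₂ →
      X₁ = X₂ := by
  intro A
  induction A using WellFoundedGT.induction with
  | _ A IH =>
  intro hclo hAtop hY
  -- overgroups of `A`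
  have hIH : ∀ A' : Subgroup G, A < A' → A' ≠ ⊤ → ∀ W : Subgroup G, W ≠ ⊤ →
      (∀ H, Closed A' H → H ≠ ⊤ → H ≤ W) → ∀ X₁ X₂ : Subgroup G, IsCoatom X₁ → IsCoatom X₂ →
        A' ≤ X₁ → A' ≤ X₂ → X₁ = X₂ := by
    intro A' hlt hne W hW hH
    refine IH A' hlt ?_ hne fun h => hW (top_le_iff.mp (h ▸ sSup_le fun H hH' => hH H hH'.1 hH'.2))
    exact top_le_iff.mp (hclo ▸ normalClosure_mono hlt.le)
  have hnn : normalizer (A : Set G) ≠ ⊤ := fun h => hAtop (by
    haveI := normalizer_eq_top_iff.mp h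
    rwa [normalClosure_eq_self] at hclo)
  set Y := envelope A with hYdef
  have hAY : A ≤ Y := le_sSup ⟨closed_self A, hAtop⟩
  have hYclosed : Closed A Y := by
    refine ⟨hAY, fun N hAN hNY hYN => le_antisymm hNY (sSup_le fun H hH => ?_)⟩
    have := hH.1.2 (N ⊓ H) (le_inf hAN hH.1.1) inf_le_right ?_
    · exact inf_eq_right.mp this
    · intro t ht
      rw [mem_normalizer_iff]
      intro y
      have htY : t ∈ Y := (le_sSup hH : H ≤ Y) ht
      rw [mem_inf, mem_inf, ← mem_normalizer_iff.mp (le_normalizer ht) y,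
        ← mem_normalizer_iff.mp (hYN htY) y]
  have hval : ∀ L : Subgroup G, L ≠ ⊤ → A ≤ L → ∃ H, SN H L ∧ A ≤ H ∧ Closed A H ∧ H ≠ ⊤ := by
    intro L hL hAL
    haveI : Nonempty {H : Subgroup G // SN H L ∧ A ≤ H} := ⟨⟨L, sn_refl L, hAL⟩⟩
    obtain ⟨⟨H, hHL, hAH⟩, hmin⟩ :=
      Finite.exists_min fun H : {H : Subgroup G // SN H L ∧ A ≤ H} => Nat.card H.1
    refine ⟨H, hHL, hAH, ⟨hAH, fun N hAN hNH hHN => ?_⟩, fun h => hL (top_le_iff.mp (h ▸ hHL.1))⟩
    exact eq_of_le_of_card_ge hNH (hmin ⟨N, sn_trans (sn_normal hNH hHN) hHL, hAN⟩)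
  -- the maximal subgroup `M`
  obtain ⟨W₀, hW₀, hYW, hNW⟩ : ∃ W₀ : Subgroup G, W₀ ≠ ⊤ ∧ Y ≤ W₀ ∧
      (Y = A → normalizer (A : Set G) ≤ W₀) := by
    by_cases h : Y = A
    · exact ⟨normalizer (A : Set G), hnn, h.le.trans le_normalizer, fun _ => le_rfl⟩
    · exact ⟨Y, hY, le_rfl, fun h' => absurd h' h⟩
  obtain ⟨M, hM, hW₀M⟩ := (eq_top_or_exists_le_coatom W₀).resolve_left hW₀
  have hYM := hYW.trans hW₀M
  have hAM := hAY.trans hYM
  intro X₁ X₂ hX₁ hX₂ hA₁ hA₂
  suffices hall : ∀ X : Subgroup G, IsCoatom X → A ≤ X → X = M from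
    (hall X₁ hX₁ hA₁).trans (hall X₂ hX₂ hA₂).symm
  by_contra! hex
  obtain ⟨X₀, hX₀, hAX₀, hX₀M⟩ := hex
  -- subnormality outside `M`
  have hsn : ∀ L : Subgroup G, L ≠ ⊤ → A ≤ L → ¬ L ≤ M → SN A L := by
    intro L hL hAL hLM
    obtain ⟨T, hTL, hAT, hTc, hT⟩ := hval L hL hAL
    rcases eq_or_lt_of_le hAT with h | h
    · exact h ▸ hTL
    · exfalso
      obtain ⟨X, hX, hLX⟩ := (eq_top_or_exists_le_coatom L).resolve_left hL
      have := hIH T h hT Y hY (fun H hH hHt => le_sSup ⟨hTc.trans hH, hHt⟩) X M hX hM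
        (hTL.1.trans hLX) ((le_sSup ⟨hTc, hT⟩ : T ≤ Y).trans hYM)
      exact hLM (this ▸ hLX)
  have hMn : normalizer (M : Set G) = M := by
    refine (hM.le_iff.mp le_normalizer).resolve_left fun h => ?_
    haveI := normalizer_eq_top_iff.mp h
    exact hM.1 (top_le_iff.mp (hclo ▸ normalClosure_le_normal hAM))
  have hMeq : ∀ g : G, MulAut.conj g • M = M → g ∈ M := fun g h => by
    rw [← hMn]; exact mem_normalizer_of_smul_le h.le
  have hMfix : ∀ g ∈ M, MulAut.conj g • M = M := fun g hg =>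
    smul_eq_of_mem_normalizer (le_normalizer hg)
  have hne_le : ∀ X : Subgroup G, IsCoatom X → X ≠ M → ¬ X ≤ M := fun X hX hne h =>
    hne ((hX.le_iff.mp h).resolve_left hM.1).symm
  have hN : normalizer (A : Set G) ≤ M := by
    intro n hn
    by_cases hYA : Y = A
    · exact hW₀M (hNW hYA hn)
    by_contra hnM
    have hA' : A ≤ MulAut.conj n • M := by
      conv_lhs => rw [← smul_eq_of_mem_normalizer hn]
      exact pointwise_smul_le_pointwise_smul_iff.2 hAM
    have h1 := hsn _ (smul_coatom hM n).1 hA' (hne_le _ (smul_coatom hM n) fun h => hnM (hMeq n h))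
    have h2 := sn_smul (MulAut.conj n⁻¹) h1
    rw [conj_smul_smul, inv_mul_cancel, conj_one_smul,
      smul_eq_of_mem_normalizer (inv_mem hn)] at h2
    have h3 := sn_restrict h2 hAY hYM
    obtain ⟨N, hAN, hNY, hYN⟩ := exists_normal_between h3 (Ne.symm hYA)
    exact hNY.ne (hYclosed.2 N hAN hNY.le hYN)
  -- conjugates are subnormal away from their maximal subgroup
  have hsnc : ∀ (g : G) (X : Subgroup G), IsCoatom X → MulAut.conj g • A ≤ X →
      X ≠ MulAut.conj g • M → SN (MulAut.conj g • A) X := by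
    intro g X hX hgX hne
    have h1 := hsn (MulAut.conj g⁻¹ • X) (smul_coatom hX _).1 (conj_le_iff.mp hgX)
      (hne_le _ (smul_coatom hX _) fun h => hne (by
        rw [← h, conj_smul_smul, mul_inv_cancel, conj_one_smul]))
    have h2 := sn_smul (MulAut.conj g) h1
    rwa [conj_smul_smul, mul_inv_cancel, conj_one_smul] at h2
  have hsn' : ∀ (g : G) (H : Subgroup G), H ≠ ⊤ → MulAut.conj g • A ≤ H →
      ¬ H ≤ MulAut.conj g • M → SN (MulAut.conj g • A) H := by
    intro g H hH hgH hne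
    obtain ⟨X, hX, hHX⟩ := (eq_top_or_exists_le_coatom H).resolve_left hH
    exact sn_restrict (hsnc g X hX (hgH.trans hHX) fun h => hne (h ▸ hHX)) hgH hHX
  have hsup : ∀ (B H : Subgroup G), Closed (A ⊔ B) H → SN A H → SN B H → H = A ⊔ B := by
    intro B H hc hA hB
    by_contra hne
    obtain ⟨N, hN1, hN2, hN3⟩ := exists_normal_between (sn_sup H A B hA hB) (Ne.symm hne)
    exact hN2.ne (hc.2 N hN1 hN2.le hN3)
  -- only one conjugate under `M` in each subgroup
  have P1 : ∀ m ∈ M, ∀ X : Subgroup G, IsCoatom X → X ≠ M → A ≤ X → MulAut.conj m • A ≤ X →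
      MulAut.conj m • A = A := by
    intro m hm X hX hXM hAX hmX
    by_contra hne
    set B := MulAut.conj m • A with hB
    have hBM : B ≤ M := by
      rw [hB, ← hMfix m hm]; exact pointwise_smul_le_pointwise_smul_iff.2 hAM
    have hlt : A < A ⊔ B := lt_of_le_of_ne le_sup_left fun h => hne
      (eq_of_le_of_card_ge (h ▸ le_sup_right)
        (Nat.card_congr (equivSMul (MulAut.conj m) A).toEquiv).le)
    refine hXM (hIH (A ⊔ B) hlt (fun h => hM.1 (top_le_iff.mp (h ▸ sup_le hAM hBM))) M hM.1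
      (fun H hc hH => ?_) X M hX hM (sup_le hAX hmX) (sup_le hAM hBM))
    by_contra hHM
    refine hHM ((hsup B H hc (hsn H hH (le_sup_left.trans hc.1) hHM) ?_).trans_le (sup_le hAM hBM))
    exact hsn' m H hH (le_sup_right.trans hc.1) (by rwa [hMfix m hm])
  -- two conjugates in two maximal subgroups
  have P2 : ∀ (a b : G) (Z₁ Z₂ : Subgroup G), IsCoatom Z₁ → IsCoatom Z₂ → Z₁ ≠ Z₂ →
      MulAut.conj a • A ≤ Z₁ → MulAut.conj a • A ≤ Z₂ → MulAut.conj b • A ≤ Z₁ →
      MulAut.conj b • A ≤ Z₂ → MulAut.conj b • A ≤ MulAut.conj a • M := by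
    intro a b Z₁ Z₂ hZ₁ hZ₂ hne ha₁ ha₂ hb₁ hb₂
    rw [conj_le_iff] at ha₁ ha₂
    set c := a⁻¹ * b with hc
    set B := MulAut.conj c • A with hB
    have hbB : MulAut.conj a • B = MulAut.conj b • A := by
      rw [hB, conj_smul_smul, hc, mul_inv_cancel_left]
    rw [← hbB, conj_le_iff] at hb₁ hb₂
    rw [← hbB, pointwise_smul_le_pointwise_smul_iff]
    by_contra hBM
    have hlt : A < A ⊔ B := lt_of_le_of_ne le_sup_left fun h =>
      hBM ((le_sup_right.trans h.ge).trans hAM)
    have hA't : A ⊔ B ≠ ⊤ := fun h => (smul_coatom hZ₁ a⁻¹).1 (top_le_iff.mp (h ▸ sup_le ha₁ hb₁))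
    have hZne : MulAut.conj a⁻¹ • Z₁ ≠ MulAut.conj a⁻¹ • Z₂ := fun h => hne (by
      have := congrArg (MulAut.conj a • ·) h
      simpa [conj_smul_smul, conj_one_smul] using this)
    obtain ⟨W, hW, hW'⟩ : ∃ W : Subgroup G, W ≠ ⊤ ∧ ∀ H, Closed (A ⊔ B) H → H ≠ ⊤ → H ≤ W := by
      by_cases hAc : A ≤ MulAut.conj c • M
      · refine ⟨MulAut.conj c • M, (smul_coatom hM c).1, fun H hHc hH => ?_⟩
        by_contra hHc'
        have hHM : ¬ H ≤ M := fun h => hBM ((le_sup_right.trans hHc.1).trans h)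
        have := hsup B H hHc (hsn H hH (le_sup_left.trans hHc.1) hHM)
          (hsn' c H hH (le_sup_right.trans hHc.1) hHc')
        exact hHc' (this ▸ sup_le hAc (pointwise_smul_le_pointwise_smul_iff.2 hAM))
      · refine ⟨A ⊔ B, hA't, fun H hHc hH => ?_⟩
        have hHM : ¬ H ≤ M := fun h => hBM ((le_sup_right.trans hHc.1).trans h)
        exact (hsup B H hHc (hsn H hH (le_sup_left.trans hHc.1) hHM)
          (hsn' c H hH (le_sup_right.trans hHc.1)
            fun h => hAc ((le_sup_left.trans hHc.1).trans h))).le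
    exact hZne (hIH (A ⊔ B) hlt hA't W hW hW' _ _ (smul_coatom hZ₁ _) (smul_coatom hZ₂ _)
      (sup_le ha₁ hb₁) (sup_le ha₂ hb₂))
  -- the largest join of conjugates in an intersection
  haveI : Nonempty {X : Subgroup G // IsCoatom X ∧ A ≤ X ∧ X ≠ M} := ⟨⟨X₀, hX₀, hAX₀, hX₀M⟩⟩
  obtain ⟨⟨X, hX, hAX, hXM⟩, hmax⟩ := Finite.exists_max
    fun X : {X : Subgroup G // IsCoatom X ∧ A ≤ X ∧ X ≠ M} => Nat.card (conjIn A (M ⊓ X.1))
  set K := conjIn A (M ⊓ X) with hK
  have hAK : A ≤ K := by
    have := le_conjIn (A := A) (U := M ⊓ X) 1 (by rw [conj_one_smul]; exact le_inf hAM hAX)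
    rwa [conj_one_smul] at this
  have hKMX : K ≤ M ⊓ X := conjIn_le _ _
  have hNK : ¬ normalizer (K : Set G) ≤ M := by
    intro hNKM
    set S' := sSup {B : Subgroup G | B ≤ M ⊓ X ∧ ∃ g : G, MulAut.conj g • A = B ∧
      X ≠ MulAut.conj g • M} with hS'
    have hAS' : A ≤ S' := le_sSup ⟨le_inf hAM hAX, 1, conj_one_smul A, by rwa [conj_one_smul]⟩
    have hS'le : S' ≤ M ⊓ X := sSup_le fun B hB => hB.1
    have hS'K : S' ≤ K := sSup_le fun B ⟨hB, g, hg, _⟩ => le_sSup ⟨hB, g, hg⟩
    have hNS' : normalizer (S' : Set G) ⊓ X ≤ M := by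
      intro n hn
      obtain ⟨hnS, hnX⟩ := mem_inf.mp hn
      refine hNKM (mem_normalizer_of_smul_le ?_)
      rw [pointwise_smul_subset_iff]
      refine sSup_le ?_
      rintro B ⟨hB, g, rfl⟩
      rw [← pointwise_smul_subset_iff]
      by_cases hg : X = MulAut.conj g • M
      · have hgA : MulAut.conj g • A ≤ M := hB.trans inf_le_left
        have hC : MulAut.conj n⁻¹ • A ≤ S' := by
          calc MulAut.conj n⁻¹ • A ≤ MulAut.conj n⁻¹ • S' := pointwise_smul_le_pointwise_smul_iff.2 hAS'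
            _ = S' := smul_eq_of_mem_normalizer (inv_mem hnS)
        have h1 := P2 n⁻¹ g M X hM hX (Ne.symm hXM) ((hC.trans hS'le).trans inf_le_left)
          ((hC.trans hS'le).trans inf_le_right) hgA (hB.trans inf_le_right)
        rw [← conj_le_iff, conj_smul_smul] at h1
        set m := g⁻¹ * n * g with hm
        have hmM : m ∈ M := by
          have := hg.le hnX
          rw [mem_pointwise_smul_iff_inv_smul_mem, MulAut.smul_def, MulAut.conj_inv_apply] at this
          exact this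
        have hgM : g ∉ M := fun h => hXM (hg.trans (hMfix g h))
        have h2 := P1 m hmM (MulAut.conj g⁻¹ • M) (smul_coatom hM _)
          (fun h => hgM (by simpa using inv_mem (hMeq _ h)))
          (conj_le_iff.mp hgA) (by
            rw [← conj_le_iff, conj_smul_smul, show g * m = n * g by simp [hm, mul_assoc]]
            exact h1)
        calc MulAut.conj n • MulAut.conj g • A = MulAut.conj g • MulAut.conj m • A := by
              rw [conj_smul_smul, conj_smul_smul]; congr 2; simp [hm, mul_assoc]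
          _ = MulAut.conj g • A := by rw [h2]
          _ ≤ K := le_conjIn g hB
      · have h1 : MulAut.conj g • A ≤ S' := le_sSup ⟨hB, g, rfl, hg⟩
        calc MulAut.conj n • MulAut.conj g • A ≤ MulAut.conj n • S' :=
              pointwise_smul_le_pointwise_smul_iff.2 h1
          _ = S' := smul_eq_of_mem_normalizer hnS
          _ ≤ K := hS'K
    have hS'sn : SN S' X :=
      sn_sSup _ fun B ⟨hB, g, hg, hne⟩ => hg ▸ hsnc g X hX (hg ▸ hB.trans inf_le_right) hne
    by_cases hXn : X ≤ normalizer (S' : Set G)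
    · exact hne_le X hX hXM ((le_inf hXn le_rfl).trans hNS')
    obtain ⟨g, hgX, hgne, hgN⟩ := exists_conj_normalizing X S' hS'sn hXn
    refine hgne (eq_of_le_of_card_ge ?_ (Nat.card_congr (equivSMul (MulAut.conj g) S').toEquiv).le)
    rw [pointwise_smul_subset_iff]
    refine sSup_le ?_
    rintro B ⟨hB, h, rfl, hne⟩
    rw [← pointwise_smul_subset_iff, conj_smul_smul]
    have h1 : MulAut.conj (g * h) • A ≤ MulAut.conj g • S' := by
      rw [← conj_smul_smul]
      exact pointwise_smul_le_pointwise_smul_iff.2 (le_sSup ⟨hB, h, rfl, hne⟩)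
    have h2 : MulAut.conj (g * h) • A ≤ X := by
      refine h1.trans ?_
      rw [← smul_eq_of_mem_normalizer (le_normalizer hgX)]
      exact pointwise_smul_le_pointwise_smul_iff.2 (hS'le.trans inf_le_right)
    refine le_sSup ⟨le_inf ((le_inf (h1.trans hgN) h2).trans hNS') h2, g * h, rfl, fun he => hne ?_⟩
    calc X = MulAut.conj g⁻¹ • X := (smul_eq_of_mem_normalizer (le_normalizer (inv_mem hgX))).symm
      _ = MulAut.conj h • M := by rw [he, conj_smul_smul, inv_mul_cancel_left]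
  have hNKt : normalizer (K : Set G) ≠ ⊤ := by
    intro h
    haveI := normalizer_eq_top_iff.mp h
    exact hM.1 (top_le_iff.mp (hclo ▸ (normalClosure_le_normal hAK).trans (hKMX.trans inf_le_left)))
  obtain ⟨L, hL, hKL⟩ := (eq_top_or_exists_le_coatom _).resolve_left hNKt
  have hLM : L ≠ M := fun h => hNK (h ▸ hKL)
  have hKleL : K ≤ L := le_normalizer.trans hKL
  have hKmax : conjIn A (M ⊓ L) = K := by
    refine (eq_of_le_of_card_ge ?_ (hmax ⟨L, hL, hAK.trans hKleL, hLM⟩)).symm
    refine sSup_le fun B ⟨hB, g, hg⟩ => le_sSup ⟨le_inf (hB.trans inf_le_left) ?_, g, hg⟩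
    exact le_trans (hg ▸ le_conjIn g (hg ▸ hB)) hKleL
  obtain ⟨c, hcK, hcM⟩ := SetLike.not_le_iff_exists.1 hNK
  set S := sSup {B : Subgroup G | B ≤ K ∧ ∃ g : G, g ∉ M ∧ MulAut.conj g • A = B} with hS
  have hSK : S ≤ K := sSup_le fun B hB => hB.1
  have hSmem : ∀ g : G, g ∉ M → MulAut.conj g • A ≤ K → MulAut.conj g • A ≤ S :=
    fun g hg h => le_sSup ⟨h, g, hg, rfl⟩
  have hcA : MulAut.conj c • A ≤ K :=
    (pointwise_smul_le_pointwise_smul_iff.2 hAK).trans (smul_eq_of_mem_normalizer hcK).le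
  have hKc : K ≤ MulAut.conj c • M := by
    rw [← smul_eq_of_mem_normalizer hcK]
    exact pointwise_smul_le_pointwise_smul_iff.2 (hKMX.trans inf_le_left)
  have hSn : normalizer (S : Set G) ⊓ M ≤ normalizer (K : Set G) := by
    intro n hn
    obtain ⟨hnS, hnM⟩ := mem_inf.mp hn
    have hnA : MulAut.conj n • A = A := by
      have hC : MulAut.conj (n⁻¹ * c) • A ≤ S := by
        rw [← conj_smul_smul]
        exact (pointwise_smul_le_pointwise_smul_iff.2 (hSmem c hcM hcA)).trans
          (smul_eq_of_mem_normalizer (inv_mem hnS)).le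
      have hCK := hC.trans hSK
      have h1 := P2 (n⁻¹ * c) 1 M L hM hL (Ne.symm hLM) (hCK.trans (hKMX.trans inf_le_left))
        (hCK.trans hKleL) (by rw [conj_one_smul]; exact hAM)
        (by rw [conj_one_smul]; exact hAK.trans hKleL)
      rw [conj_one_smul, ← conj_smul_smul, ← conj_le_iff] at h1
      exact P1 n hnM _ (smul_coatom hM c) (fun h => hcM (hMeq c h)) (hAK.trans hKc) h1
    refine mem_normalizer_of_smul_le ?_
    rw [pointwise_smul_subset_iff]
    refine sSup_le ?_
    rintro B ⟨hB, g, rfl⟩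
    rw [← pointwise_smul_subset_iff]
    by_cases hg : g ∈ M
    · have hgK : MulAut.conj g • A ≤ K := le_conjIn g hB
      rw [P1 g hg L hL hLM (hAK.trans hKleL) (hgK.trans hKleL), hnA]
      exact hAK
    · calc MulAut.conj n • MulAut.conj g • A ≤ MulAut.conj n • S :=
            pointwise_smul_le_pointwise_smul_iff.2 (hSmem g hg (le_conjIn g hB))
        _ = S := smul_eq_of_mem_normalizer hnS
        _ ≤ K := hSK
  -- `S` is normal in `M`
  have hSM : M ≤ normalizer (S : Set G) := by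
    by_contra hne
    have hSsn : SN S M := sn_sSup _ fun B ⟨hB, g, hg, he⟩ => he ▸ hsnc g M hM
      (he ▸ hB.trans (hKMX.trans inf_le_left)) fun h => hg (hMeq g h.symm)
    obtain ⟨g, hgM, hgne, hgN⟩ := exists_conj_normalizing M S hSsn hne
    refine hgne (eq_of_le_of_card_ge ?_ (Nat.card_congr (equivSMul (MulAut.conj g) S).toEquiv).le)
    rw [pointwise_smul_subset_iff]
    refine sSup_le ?_
    rintro B ⟨hB, h, hh, rfl⟩
    rw [← pointwise_smul_subset_iff, conj_smul_smul]
    have h1 : MulAut.conj (g * h) • A ≤ MulAut.conj g • S := by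
      rw [← conj_smul_smul]
      exact pointwise_smul_le_pointwise_smul_iff.2 (hSmem h hh hB)
    have h2 : MulAut.conj (g * h) • A ≤ M := by
      refine h1.trans ?_
      rw [← smul_eq_of_mem_normalizer (le_normalizer hgM)]
      exact pointwise_smul_le_pointwise_smul_iff.2 (hSK.trans (hKMX.trans inf_le_left))
    refine hSmem _ (fun h' => hh (by simpa using M.mul_mem (inv_mem hgM) h')) ?_
    rw [← hKmax]
    exact le_conjIn _ (le_inf h2 (((le_inf (h1.trans hgN) h2).trans hSn).trans hKL))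
  -- propagation
  let R : ℕ → Set G := fun k => Nat.rec (M : Set G)
    (fun _ T => T ∪ {x | ∃ g ∈ T, ∃ e ∈ ({c, c⁻¹} : Set G), ∃ m ∈ M, x = g * e * m}) k
  have hRs : ∀ k, R (k + 1) = R k ∪ {x | ∃ g ∈ R k, ∃ e ∈ ({c, c⁻¹} : Set G), ∃ m ∈ M, x = g * e * m} :=
    fun k => rfl
  have hRmono : Monotone R := monotone_nat_of_le_succ fun k => by rw [hRs]; exact Set.subset_union_left
  have hRM : ∀ k, ∀ g ∈ R k, ∀ m ∈ M, g * m ∈ R k := by
    intro k
    induction k with
    | zero => exact fun g hg m hm => M.mul_mem hg hm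
    | succ k ih =>
      intro g hg m hm
      rw [hRs] at hg ⊢
      rcases hg with hg | ⟨g', hg', e, he, m', hm', rfl⟩
      · exact Or.inl (ih g hg m hm)
      · exact Or.inr ⟨g', hg', e, he, m' * m, M.mul_mem hm' hm, by simp [mul_assoc]⟩
  have hRtop : ∃ k, R k = Set.univ := by
    let St : Subgroup G :=
      { carrier := {x | ∀ k, ∀ g ∈ R k, (∃ j, g * x ∈ R j) ∧ ∃ j, g * x⁻¹ ∈ R j}
        one_mem' := fun k g hg => ⟨⟨k, by simpa using hg⟩, ⟨k, by simpa using hg⟩⟩
        mul_mem' := by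
          intro x y hx hy k g hg
          constructor
          · obtain ⟨j, hj⟩ := (hx k g hg).1
            obtain ⟨j', hj'⟩ := (hy j _ hj).1
            exact ⟨j', by simpa [mul_assoc] using hj'⟩
          · obtain ⟨j, hj⟩ := (hy k g hg).2
            obtain ⟨j', hj'⟩ := (hx j _ hj).2
            exact ⟨j', by simpa [mul_assoc] using hj'⟩
        inv_mem' := fun hx k g hg => ⟨(hx k g hg).2, by simpa using (hx k g hg).1⟩ }
    have hMSt : M ≤ St := fun m hm k g hg => ⟨⟨k, hRM k g hg m hm⟩, ⟨k, hRM k g hg _ (inv_mem hm)⟩⟩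
    have hcSt : c ∈ St := fun k g hg => by
      constructor <;> refine ⟨k + 1, Or.inr ⟨g, hg, _, ?_, 1, M.one_mem, (mul_one _).symm⟩⟩ <;> simp
    have hStop : St = ⊤ := hM.2 St (lt_of_le_of_ne hMSt fun h => hcM (h ▸ hcSt))
    have hall : ∀ x : G, ∃ j, x ∈ R j := fun x => by
      obtain ⟨j, hj⟩ := ((hStop ▸ mem_top x : x ∈ St) 0 1 M.one_mem).1
      exact ⟨j, by simpa using hj⟩
    choose f hf using hall
    obtain ⟨x₀, hx₀⟩ := Finite.exists_max f
    exact ⟨f x₀, Set.eq_univ_of_forall fun x => hRmono (hx₀ x) (hf x)⟩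
  classical
  have hk₀ : Nat.find hRtop ≠ 0 := fun h => hM.1 (eq_top_iff.mpr fun x _ => by
    have : R 0 = Set.univ := h ▸ Nat.find_spec hRtop
    exact (this ▸ Set.mem_univ x : x ∈ R 0))
  obtain ⟨k, hk⟩ := Nat.exists_eq_succ_of_ne_zero hk₀
  have hklast : R (k + 1) = Set.univ := by
    have := Nat.find_spec hRtop
    rwa [hk] at this
  obtain ⟨z₁, hz₁⟩ : ∃ z, z ∉ R k := by
    by_contra! h
    exact Nat.find_min hRtop (show k < Nat.find hRtop by omega) (Set.eq_univ_of_forall h)
  obtain ⟨g₀, hg₀, e₀, he₀, m₀, hm₀, rfl⟩ :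
      ∃ g ∈ R k, ∃ e ∈ ({c, c⁻¹} : Set G), ∃ m ∈ M, z₁ = g * e * m := by
    have : z₁ ∈ R (k + 1) := hklast ▸ Set.mem_univ _
    rw [hRs] at this
    exact this.resolve_left hz₁
  set z := g₀ * e₀ with hz
  have hzR : z ∉ R k := fun h => hz₁ (hRM k _ h m₀ hm₀)
  let P : G → Prop := fun x => MulAut.conj z • A ≤ MulAut.conj x • S
  have hPm : ∀ x, ∀ m ∈ M, P (x * m) ↔ P x := fun x m hm => by
    show _ ≤ MulAut.conj (x * m) • S ↔ _
    rw [show MulAut.conj (x * m) • S = MulAut.conj x • S by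
      rw [← conj_smul_smul, smul_eq_of_mem_normalizer (hSM hm)]]
  have hek : ∀ e ∈ ({c, c⁻¹} : Set G), e ∈ normalizer (K : Set G) ∧ e ∉ M := by
    rintro e (rfl | rfl)
    · exact ⟨hcK, hcM⟩
    · exact ⟨inv_mem hcK, fun h => hcM (by simpa using inv_mem h)⟩
  have hstep : ∀ x, ∀ e ∈ ({c, c⁻¹} : Set G), (x * e)⁻¹ * z ∉ M → P x → P (x * e) := by
    intro x e he hxe hx
    obtain ⟨heK, -⟩ := hek e he
    have h1 : MulAut.conj (x⁻¹ * z) • A ≤ S := by
      rw [← conj_smul_smul, conj_le_iff, inv_inv]; exact hx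
    have h2 : MulAut.conj ((x * e)⁻¹ * z) • A ≤ K := by
      rw [show (x * e)⁻¹ * z = e⁻¹ * (x⁻¹ * z) by simp [mul_assoc], ← conj_smul_smul]
      exact (pointwise_smul_le_pointwise_smul_iff.2 (h1.trans hSK)).trans
        (smul_eq_of_mem_normalizer (inv_mem heK)).le
    have h3 := hSmem _ hxe h2
    rw [← conj_smul_smul, conj_le_iff, inv_inv] at h3
    exact h3
  have hnot : ∀ j ≤ k, ∀ x ∈ R j, x⁻¹ * z ∉ M := fun j hj x hx h =>
    hzR (by simpa using hRM k x (hRmono hj hx) _ h)
  have hP₀ : P g₀ := by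
    show MulAut.conj z • A ≤ MulAut.conj g₀ • S
    rw [hz, ← conj_smul_smul, pointwise_smul_le_pointwise_smul_iff]
    obtain ⟨heK, heM⟩ := hek e₀ he₀
    exact hSmem e₀ heM ((pointwise_smul_le_pointwise_smul_iff.2 hAK).trans
      (smul_eq_of_mem_normalizer heK).le)
  have hinv : ∀ e ∈ ({c, c⁻¹} : Set G), e⁻¹ ∈ ({c, c⁻¹} : Set G) := by
    rintro e (rfl | rfl) <;> simp
  have hdown : ∀ j ≤ k, ∀ x ∈ R j, P x → P 1 := by
    intro j
    induction j with
    | zero => intro _ x hx hPx; rwa [← hPm 1 x hx, one_mul]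
    | succ j ih =>
      intro hj x hx hPx
      rw [hRs] at hx
      rcases hx with hx | ⟨g, hg, e, he, m, hm, rfl⟩
      · exact ih (by omega) x hx hPx
      · rw [hPm _ m hm] at hPx
        have := hstep (g * e) e⁻¹ (hinv e he) (by simpa using hnot j (by omega) g hg) hPx
        rw [mul_inv_cancel_right] at this
        exact ih (by omega) g hg this
  have hP1 : P 1 := hdown k le_rfl g₀ hg₀ hP₀
  have hup : ∀ j ≤ k, ∀ x ∈ R j, P x := by
    intro j
    induction j with
    | zero => intro _ x hx; rw [← one_mul x, hPm 1 x hx]; exact hP1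
    | succ j ih =>
      intro hj x hx
      have hnx := hnot (j + 1) hj x hx
      rw [hRs] at hx
      rcases hx with hx | ⟨g, hg, e, he, m, hm, rfl⟩
      · exact ih (by omega) x hx
      · rw [hPm _ m hm]
        refine hstep g e he (fun h => hnx ?_) (ih (by omega) g hg)
        have := M.mul_mem (inv_mem hm) h
        simpa [mul_assoc] using this
  have hallM : ∀ x : G, MulAut.conj z • A ≤ MulAut.conj x • M := by
    intro x
    by_cases hzx : x⁻¹ * z ∈ M
    · have he : MulAut.conj x • M = MulAut.conj (x * (x⁻¹ * z)) • M := by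
        rw [← conj_smul_smul x (x⁻¹ * z), hMfix _ hzx]
      rw [he, mul_inv_cancel_left]
      exact pointwise_smul_le_pointwise_smul_iff.2 hAM
    · have hPx : P x := by
        have hx : x ∈ R (k + 1) := hklast ▸ Set.mem_univ x
        rw [hRs] at hx
        rcases hx with hx | ⟨g, hg, e, he, m, hm, rfl⟩
        · exact hup k le_rfl x hx
        · rw [hPm _ m hm]
          refine hstep g e he (fun h => hzx ?_) (hup k le_rfl g hg)
          have := M.mul_mem (inv_mem hm) h
          simpa [mul_assoc] using this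
      exact hPx.trans (pointwise_smul_le_pointwise_smul_iff.2 (hSK.trans (hKMX.trans inf_le_left)))
  apply hM.1
  refine top_le_iff.mp (hclo ▸ ?_)
  refine (Subgroup.closure_le M).mpr ?_
  intro y hy
  obtain ⟨a, ha, hay⟩ := Group.mem_conjugatesOfSet_iff.mp hy
  obtain ⟨u, hu⟩ := isConj_iff.mp hay
  have h1 := conj_le_iff.mp (hallM (z * u⁻¹))
  rw [conj_smul_smul, inv_mul_cancel_left] at h1
  have h2 := h1 ha
  rw [mem_pointwise_smul_iff_inv_smul_mem, MulAut.smul_def, MulAut.conj_inv_apply] at h2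
  rw [← hu]
  simpa using h2

end Cfsg.Agent.Zipper23
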